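import Mathlib.GroupTheory.FixedPointFree
import Cfsg.Agent.L0.Class2
import Cfsg.Agent.H7.Basic
import Cfsg.Agent.H1.Basic

/-!
Fixed-point-free automorphisms of order three: Neumann's theorem (class at most two) for groups
without elements of order three, and fixed points on quotients.
-/

set_option autoImplicit false
set_option linter.unusedSectionVars false

namespace Cfsg.L0

open Subgroup
open scoped commutatorElement

variable {T : Type*} [Group T] [Finite T]

/-- `ρ` is a fixed-point-free endomorphism with `ρ³ = 1`. -/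
structure Fpf3 (ρ : T →* T) : Prop where
  cube : ∀ x, ρ (ρ (ρ x)) = x
  fpf : ∀ x, ρ x = x → x = 1

namespace Fpf3

variable {ρ : T →* T}

theorem injective (h : Fpf3 ρ) : Function.Injective ρ := fun x y e => by
  rw [← h.cube x, e, h.cube]

theorem prod (h : Fpf3 ρ) (x : T) : x * ρ x * ρ (ρ x) = 1 := by
  have := MonoidHom.FixedPointFree.prod_pow_eq_one (φ := ρ) h.fpf (n := 3)
    (funext h.cube) x
  simpa [List.range_succ, mul_assoc] using this

theorem comm (h : Fpf3 ρ) (x : T) : x * ρ x = ρ x * x := by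
  have h1 := h.prod x
  have h2 := h.prod x⁻¹
  simp only [map_inv] at h2
  have h3 : ρ (ρ x) * (ρ x * x) = 1 := by
    have := congrArg (·⁻¹) h2
    simpa [mul_assoc] using this
  rw [eq_inv_of_mul_eq_one_left h1, eq_inv_of_mul_eq_one_right h3]

theorem comm_conj (h : Fpf3 ρ) (x k : T) : Commute x (k * ρ x * k⁻¹) := by
  obtain ⟨g, rfl⟩ := MonoidHom.FixedPointFree.commutatorMap_surjective (φ := ρ) h.fpf k
  have h1 := h.comm (g⁻¹ * x * g)
  simp only [MonoidHom.commutatorMap_apply, div_eq_mul_inv, map_mul, map_inv] at h1 ⊢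
  calc x * (g * (ρ g)⁻¹ * ρ x * (g * (ρ g)⁻¹)⁻¹)
      = g * (g⁻¹ * x * g * ((ρ g)⁻¹ * ρ x * ρ g)) * g⁻¹ := by group
    _ = _ := by rw [h1]; group

theorem comm_conj_self (h : Fpf3 ρ) (x k : T) : Commute x (k * x * k⁻¹) := by
  have h1 := h.comm_conj x k
  have h2 : Commute x (k * ρ (ρ x) * k⁻¹) := by
    have := h.comm_conj (ρ (ρ x)) k⁻¹
    rw [h.cube] at this
    calc x * (k * ρ (ρ x) * k⁻¹) = k * (k⁻¹ * x * k⁻¹⁻¹ * ρ (ρ x)) * k⁻¹ := by group
      _ = _ := by rw [← this.eq]; group
  have h3 : k * x * k⁻¹ = (k * ρ x * k⁻¹ * (k * ρ (ρ x) * k⁻¹))⁻¹ := by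
    have := h.prod x
    rw [mul_assoc] at this
    calc k * x * k⁻¹ = k * (ρ x * ρ (ρ x))⁻¹ * k⁻¹ := by rw [← eq_inv_of_mul_eq_one_left this]
      _ = _ := by group
  rw [h3]
  exact (h1.mul_right h2).inv_right

theorem aux {M : Type*} [CommGroup M] (a b a' b' r : M →* M) (h3 : ∀ m, r (r (r m)) = m)
    (hp : ∀ m, m * r m * r (r m) = 1) (ha : ∀ m, a' m = a (r m) * m * (r m)⁻¹)
    (hb : ∀ m, b' m = b (r m) * m * (r m)⁻¹) (hab : ∀ m, a' (b' m) = a (b (r m)) * m * (r m)⁻¹)
    (he : ∀ m, r (b m) = b' (r m)) (m : M) : (a (b m) * (a m)⁻¹ * (b m)⁻¹ * m) ^ 3 = 1 := by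
  have key : ∀ m, a (b (r m)) * (a (r m))⁻¹ * (b (r m))⁻¹ * r m =
      a (b m) * (a m)⁻¹ * (b m)⁻¹ * m := by
    intro m
    have h1 : r (b' m) = b m * m⁻¹ * r m := by
      rw [hb, map_mul, map_mul, map_inv, he, hb, h3]
      apply Additive.ofMul.injective
      simp only [ofMul_mul, ofMul_inv]
      abel
    have h2 := hab m
    rw [ha, h1, hb, map_mul, map_mul, map_inv] at h2
    rw [eq_mul_inv_of_mul_eq (eq_mul_inv_of_mul_eq h2.symm)]
    apply Additive.ofMul.injective
    simp only [ofMul_mul, ofMul_inv]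
    abel
  have h1 := congrArg a (congrArg b (hp m))
  have h2 := congrArg a (hp m)
  have h3 := congrArg b (hp m)
  simp only [map_mul, map_one] at h1 h2 h3
  rw [pow_succ, pow_succ, pow_one]
  nth_rewrite 2 [← key m]
  nth_rewrite 2 [← key m]
  nth_rewrite 2 [← key (r m)]
  calc _ = (a (b m) * a (b (r m)) * a (b (r (r m)))) * (a m * a (r m) * a (r (r m)))⁻¹ *
      (b m * b (r m) * b (r (r m)))⁻¹ * (m * r m * r (r m)) := by
        apply Additive.ofMul.injective
        simp only [ofMul_mul, ofMul_inv]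
        abel
    _ = 1 := by rw [h1, h2, h3, hp]; simp

/-- Neumann's theorem. -/
theorem commutator_le_center (h : Fpf3 ρ) (h3 : ∀ x : T, x ^ 3 = 1 → x = 1) :
    commutator T ≤ center T := by
  have key : ∀ x y z : T, y * ⁅z, x⁆ = ⁅z, x⁆ * y := by
    intro x y z
    set M := normalClosure ({x, ρ x} : Set T) with hM
    have hc : IsMulCommutative M := isMulCommutative_closure (by
      have k1 : ∀ u v a b : T, (∀ k, Commute u (k * v * k⁻¹)) →
          a * u * a⁻¹ * (b * v * b⁻¹) = b * v * b⁻¹ * (a * u * a⁻¹) := fun u v a b e => by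
        calc _ = a * (u * (a⁻¹ * b * v * (a⁻¹ * b)⁻¹)) * a⁻¹ := by group
          _ = _ := by rw [(e _).eq]; group
      intro p hp q hq
      obtain ⟨u, hu, hp⟩ := Group.mem_conjugatesOfSet_iff.1 hp
      obtain ⟨v, hv, hq⟩ := Group.mem_conjugatesOfSet_iff.1 hq
      obtain ⟨a, rfl⟩ := isConj_iff.1 hp
      obtain ⟨b, rfl⟩ := isConj_iff.1 hq
      rcases hu with rfl | rfl <;> rcases hv with rfl | rfl
      · exact k1 _ _ _ _ (h.comm_conj_self _)
      · exact k1 _ _ _ _ (h.comm_conj _)
      · exact (k1 _ _ _ _ (h.comm_conj _)).symm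
      · exact k1 _ _ _ _ (h.comm_conj_self _))
    have hx : x ∈ M := subset_normalClosure (by simp)
    have hx' : ρ x ∈ M := subset_normalClosure (by simp)
    have hr : M ≤ M.comap ρ := normalClosure_le_normal (by
      rintro u (rfl | rfl)
      · exact hx'
      · change ρ (ρ x) ∈ M
        rw [eq_inv_of_mul_eq_one_right (h.prod x)]
        exact inv_mem (mul_mem hx hx'))
    let _ : CommGroup M := { (inferInstance : Group M) with mul_comm := hc.is_comm.comm }
    let r : M →* M := (ρ.comp M.subtype).codRestrict M fun m => hr m.2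
    let c : T → M →* M := fun g => (MulAut.conjNormal g : MulAut M).toMonoidHom
    have hI : ∀ g m, c (ρ g) m = c g (r m) * m * (r m)⁻¹ := by
      intro g m
      have h1 : m * c g (r m) = r m * c (ρ g) m := Subtype.ext (by
        have h2 := h.comm (m * g)
        have h3 := h.comm g
        simp only [map_mul] at h2
        change (m : T) * (g * ρ m * g⁻¹) = ρ m * (ρ g * m * (ρ g)⁻¹)
        calc (m : T) * (g * ρ m * g⁻¹) = (m * g * (ρ m * ρ g)) * (g * ρ g)⁻¹ := by group
          _ = _ := by rw [h2, h3]; group)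
      rw [mul_comm (c g (r m)), h1, mul_comm (r m), mul_inv_cancel_right]
    have h4 := aux (c y) (c z) (c (ρ y)) (c (ρ z)) r (fun m => Subtype.ext (h.cube m))
      (fun m => Subtype.ext (h.prod m)) (hI y) (hI z) (fun m => by
        have := hI (y * z) m
        simp only [c, map_mul] at this
        exact this) (fun m => Subtype.ext (by
        change ρ (z * m * z⁻¹) = ρ z * ρ m * (ρ z)⁻¹
        simp)) ⟨x, hx⟩
    have h5 : c y (c z ⟨x, hx⟩) * (c y ⟨x, hx⟩)⁻¹ * (c z ⟨x, hx⟩)⁻¹ * ⟨x, hx⟩ = 1 :=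
      Subtype.ext (h3 _ (congrArg Subtype.val h4))
    have h6 : c y (c z ⟨x, hx⟩ * ⟨x, hx⟩⁻¹) = c z ⟨x, hx⟩ * ⟨x, hx⟩⁻¹ := by
      rw [map_mul, map_inv, ← mul_inv_eq_one, ← h5]
      apply Additive.ofMul.injective
      simp only [ofMul_mul, ofMul_inv]
      abel
    have h7 : y * (z * x * z⁻¹ * x⁻¹) * y⁻¹ = z * x * z⁻¹ * x⁻¹ := congrArg Subtype.val h6
    exact mul_inv_eq_iff_eq_mul.1 h7
  rw [_root_.commutator_def, commutator_le]
  exact fun z _ x _ => mem_center_iff.2 fun y => key x y z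

theorem restrict (h : Fpf3 ρ) {N : Subgroup T} (hN : ∀ x ∈ N, ρ x ∈ N) :
    Fpf3 ((ρ.comp N.subtype).codRestrict N fun m => hN m m.2) :=
  ⟨fun x => Subtype.ext (h.cube x), fun x e => Subtype.ext (h.fpf x (congrArg Subtype.val e))⟩

theorem mem_of_mem (h : Fpf3 ρ) {N : Subgroup T} (hN : ∀ x ∈ N, ρ x ∈ N) {x : T}
    (hx : x / ρ x ∈ N) : x ∈ N := by
  obtain ⟨n, hn⟩ := MonoidHom.FixedPointFree.commutatorMap_surjective (h.restrict hN).fpf ⟨_, hx⟩
  have : n.1 = x := MonoidHom.FixedPointFree.commutatorMap_injective (φ := ρ) h.fpf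
    (congrArg Subtype.val hn)
  exact this ▸ n.2

theorem abelianization (h : Fpf3 ρ) : Fpf3 (Abelianization.map ρ) := by
  refine ⟨fun x => ?_, fun x e => ?_⟩
  · obtain ⟨x, rfl⟩ := QuotientGroup.mk_surjective x
    exact congrArg Abelianization.of (h.cube x)
  · obtain ⟨x, rfl⟩ := QuotientGroup.mk_surjective x
    refine (QuotientGroup.eq_one_iff x).2 (h.mem_of_mem (fun y hy => ?_) ?_)
    · have := mem_map_of_mem ρ hy
      rw [_root_.commutator_def, map_commutator] at this
      exact commutator_mono le_top le_top this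
    · exact (QuotientGroup.eq_iff_div_mem).1 (Eq.symm e)

theorem card_modEq (h : Fpf3 ρ) : Nat.card T ≡ 1 [MOD 3] := by
  have := Fintype.ofFinite T
  classical
  let f : Function.End T := fun x => ρ x
  have : Fact (Nat.Prime 3) := ⟨Nat.prime_three⟩
  have h1 := Equiv.Perm.card_fixedPoints_modEq (f := f) (p := 3) (n := 1) (funext h.cube)
  rw [Nat.card_eq_fintype_card]
  have h2 : Fintype.card (Function.fixedPoints f) = 1 :=
    Fintype.card_eq_one_iff.2 ⟨⟨1, map_one ρ⟩, fun y => Subtype.ext (h.fpf y y.2)⟩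
  rwa [h2] at h1

end Fpf3

/-- Fixed points on the abelianization. -/
theorem card_fix_abelianization_le (τ : T →* T) :
    Nat.card (MonoidHom.eqLocus (Abelianization.map τ) (MonoidHom.id _)) ≤
      Nat.card (MonoidHom.eqLocus τ (MonoidHom.id T)) := by
  set F := MonoidHom.eqLocus τ (MonoidHom.id T)
  set P := (MonoidHom.eqLocus (Abelianization.map τ) (MonoidHom.id _)).comap
    (Abelianization.of : T →* _) with hP
  have h1 : Nat.card P = Nat.card (MonoidHom.eqLocus (Abelianization.map τ) (MonoidHom.id _)) *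
      Nat.card (commutator T) := by
    rw [mul_comm]
    exact H1.card_comap_mk' (commutator T) _
  have hF : F ≤ P := fun x hx => congrArg Abelianization.of (show τ x = x from hx)
  have h2 : F.relIndex P ≤ Nat.card (commutator T) := by
    let f : P ⧸ F.subgroupOf P → commutator T := fun q => Quotient.liftOn' q
      (fun x => ⟨x.1 / τ x.1, QuotientGroup.eq_iff_div_mem.1 (Eq.symm x.2)⟩) (by
        intro x y e
        have e' : τ (x.1⁻¹ * y.1) = x.1⁻¹ * y.1 := QuotientGroup.leftRel_apply.1 e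
        refine Subtype.ext ?_
        simp only [map_mul, map_inv] at e'
        change x.1 / τ x.1 = y.1 / τ y.1
        rw [div_eq_mul_inv, div_eq_mul_inv, eq_mul_inv_iff_mul_eq, mul_assoc, e']
        group)
    refine Nat.card_le_card_of_injective f fun p q => ?_
    induction p using QuotientGroup.induction_on with | H x => ?_
    induction q using QuotientGroup.induction_on with | H y => ?_
    intro e
    have e' : x.1 / τ x.1 = y.1 / τ y.1 := congrArg Subtype.val e
    refine QuotientGroup.eq.2 ?_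
    change τ (x.1⁻¹ * y.1) = x.1⁻¹ * y.1
    rw [div_eq_mul_inv, div_eq_mul_inv] at e'
    rw [map_mul, map_inv]
    calc _ = x.1⁻¹ * (x.1 * (τ x.1)⁻¹) * τ y.1 := by group
      _ = _ := by rw [e']; group
  have h3 := H7.relIndex_mul_card_of_le hF
  have h4 : 0 < Nat.card (commutator T) := Nat.card_pos
  rw [h1] at h3
  nlinarith

end Cfsg.L0
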