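import Cfsg.Agent.H3.U3
import Cfsg.Agent.H3.Small

/-!
The special groups of order 64 given by a quadratic form over the field with four elements; the
Sylow 2-subgroups of `L₃(4)` and `U₃(4)`.
-/

set_option autoImplicit false

namespace Cfsg.L0.Syl64

set_option linter.unusedSectionVars false
open Subgroup Cfsg.H3
open scoped commutatorElement MatrixGroups

/-- A cube root of unity. -/
def om : F4 := ⟨0, 1⟩

theorem f4_cases : ∀ a : F4, a = 0 ∨ a = 1 ∨ a = om ∨ a = om + 1 := by decide +kernel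

/-- The model groups. -/
@[ext] structure Mdl (α γ : F4) where
  a : F4
  b : F4
  c : F4

theorem f4_two (a : F4) : a + a = 0 := by revert a; decide +kernel

instance (α γ : F4) : Group (Mdl α γ) where
  mul x y := ⟨x.a + y.a, x.b + y.b, x.c + y.c + (α * x.a * y.a + x.b * y.a + γ * x.b * y.b)⟩
  one := ⟨0, 0, 0⟩
  inv x := ⟨-x.a, -x.b, -x.c + (α * x.a * x.a + x.b * x.a + γ * x.b * x.b)⟩
  mul_assoc x y z := Mdl.ext (add_assoc _ _ _) (add_assoc _ _ _) (by
    change x.c + y.c + (α * x.a * y.a + x.b * y.a + γ * x.b * y.b) + z.c +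
      (α * (x.a + y.a) * z.a + (x.b + y.b) * z.a + γ * (x.b + y.b) * z.b) =
      x.c + (y.c + z.c + (α * y.a * z.a + y.b * z.a + γ * y.b * z.b)) +
      (α * x.a * (y.a + z.a) + x.b * (y.a + z.a) + γ * x.b * (y.b + z.b))
    ring)
  one_mul x := Mdl.ext (zero_add _) (zero_add _) (by
    change 0 + x.c + (α * 0 * x.a + 0 * x.a + γ * 0 * x.b) = x.c
    ring)
  mul_one x := Mdl.ext (add_zero _) (add_zero _) (by
    change x.c + 0 + (α * x.a * 0 + x.b * 0 + γ * x.b * 0) = x.c
    ring)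
  inv_mul_cancel x := Mdl.ext (neg_add_cancel _) (neg_add_cancel _) (by
    change -x.c + (α * x.a * x.a + x.b * x.a + γ * x.b * x.b) + x.c +
      (α * (-x.a) * x.a + (-x.b) * x.a + γ * (-x.b) * x.b) = 0
    ring)

theorem mdl_mul {α γ : F4} (x y : Mdl α γ) : x * y =
    ⟨x.a + y.a, x.b + y.b, x.c + y.c + (α * x.a * y.a + x.b * y.a + γ * x.b * y.b)⟩ := rfl

theorem mdl_one {α γ : F4} : (1 : Mdl α γ) = ⟨0, 0, 0⟩ := rfl

/-- Coordinates. -/
def mdlEquiv (α γ : F4) : Mdl α γ ≃ F4 × F4 × F4 :=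
  ⟨fun x => (x.a, x.b, x.c), fun x => ⟨x.1, x.2.1, x.2.2⟩, fun _ => rfl, fun _ => rfl⟩

theorem card_mdl (α γ : F4) : Nat.card (Mdl α γ) = 64 := by
  rw [Nat.card_congr (mdlEquiv α γ), Nat.card_prod, Nat.card_prod, Nat.card_eq_fintype_card, card_F4]

instance (α γ : F4) : Finite (Mdl α γ) := Finite.of_equiv _ (mdlEquiv α γ).symm

theorem mdl_equiv {α γ A C : F4} (p q r s l k : F4)
    (h : (∀ a b c, p * a + q * b = 0 → r * a + s * b = 0 → l * c + k * a * b = 0 →
      a = 0 ∧ b = 0 ∧ c = 0) ∧ ∀ a b a' b', l * (α * a * a' + b * a' + γ * b * b') +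
        k * (a * b' + a' * b) = A * (p * a + q * b) * (p * a' + q * b') +
        (r * a + s * b) * (p * a' + q * b') + C * (r * a + s * b) * (r * a' + s * b')) :
    Nonempty (Mdl α γ ≃* Mdl A C) := by
  let f : Mdl α γ →* Mdl A C := MonoidHom.mk'
    (fun x => ⟨p * x.a + q * x.b, r * x.a + s * x.b, l * x.c + k * x.a * x.b⟩) fun x y => by
      simp only [mdl_mul]
      refine Mdl.ext (by ring) (by ring) ?_
      linear_combination h.2 x.a x.b y.a y.b
  have hf : Function.Injective f := (injective_iff_map_eq_one f).2 fun x e => by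
    obtain ⟨h1, h2, h3⟩ := h.1 x.a x.b x.c (congrArg Mdl.a e) (congrArg Mdl.b e) (congrArg Mdl.c e)
    exact Mdl.ext h1 h2 h3
  exact ⟨MulEquiv.ofBijective f (hf.bijective_of_nat_card_le (by rw [card_mdl, card_mdl]))⟩

theorem mdl_cases (α γ : F4) :
    Nonempty (Mdl α γ ≃* Mdl 0 0) ∨ Nonempty (Mdl α γ ≃* Mdl 1 om) := by
  rcases f4_cases α with rfl | rfl | rfl | rfl <;> rcases f4_cases γ with rfl | rfl | rfl | rfl
  · exact Or.inl ⟨MulEquiv.refl _⟩
  · exact Or.inl (mdl_equiv 0 1 1 1 1 1 (by decide +kernel))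
  · exact Or.inl (mdl_equiv 0 1 1 om 1 1 (by decide +kernel))
  · exact Or.inl (mdl_equiv 0 1 1 (om + 1) 1 1 (by decide +kernel))
  · exact Or.inl (mdl_equiv 1 0 1 1 1 0 (by decide +kernel))
  · exact Or.inl (mdl_equiv 1 om 1 (om + 1) 1 om (by decide +kernel))
  · exact Or.inr ⟨MulEquiv.refl _⟩
  · exact Or.inr (mdl_equiv 0 1 (om + 1) 1 (om + 1) om (by decide +kernel))
  · exact Or.inl (mdl_equiv 1 0 1 (om + 1) (om + 1) 0 (by decide +kernel))
  · exact Or.inr (mdl_equiv 0 1 1 0 1 1 (by decide +kernel))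
  · exact Or.inr (mdl_equiv 0 1 1 1 1 (om + 1) (by decide +kernel))
  · exact Or.inl (mdl_equiv 1 1 1 om (om + 1) 1 (by decide +kernel))
  · exact Or.inl (mdl_equiv 1 0 1 om om 0 (by decide +kernel))
  · exact Or.inr (mdl_equiv 0 1 om 1 om 1 (by decide +kernel))
  · exact Or.inl (mdl_equiv 1 1 1 (om + 1) om 1 (by decide +kernel))
  · exact Or.inr (mdl_equiv 0 1 om 0 om om (by decide +kernel))

theorem isPGroup_mdl (α γ : F4) : IsPGroup 2 (Mdl α γ) :=
  IsPGroup.of_card (n := 6) (card_mdl α γ)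

theorem psl_sylow (P : Sylow 2 (Matrix.ProjectiveSpecialLinearGroup (Fin 3) F4)) :
    Nonempty (Mdl 0 0 ≃* P) := by
  have : Fact (Nat.Prime 2) := ⟨Nat.prime_two⟩
  let f : Mdl 0 0 →* SL(3, F4) := MonoidHom.mk'
    (fun x => ⟨!![1, x.b, x.c; 0, 1, x.a; 0, 0, 1], by simp [Matrix.det_fin_three]⟩) fun x y => by
      refine Subtype.ext ?_
      change !![1, (x * y).b, (x * y).c; 0, 1, (x * y).a; 0, 0, 1] =
        !![1, x.b, x.c; 0, 1, x.a; 0, 0, 1] * !![1, y.b, y.c; 0, 1, y.a; 0, 0, 1]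
      rw [Matrix.mul_fin_three, mdl_mul]
      congr <;> ring
  let g : Mdl 0 0 →* Matrix.ProjectiveSpecialLinearGroup (Fin 3) F4 :=
    (QuotientGroup.mk' _).comp f
  have hg : Function.Injective g := (injective_iff_map_eq_one g).2 fun x e => by
    obtain ⟨r, -, hr⟩ := Matrix.SpecialLinearGroup.mem_center_iff.1
      ((QuotientGroup.eq_one_iff _).1 e)
    have h1 := congrFun (congrFun hr 1) 2
    have h2 := congrFun (congrFun hr 0) 1
    have h3 := congrFun (congrFun hr 0) 2
    simp [f] at h1 h2 h3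
    exact Mdl.ext h1.symm h2.symm h3.symm
  have h1 : Nat.card SL(3, F4) = 60480 := by
    have := card_SL_mul (n := Fin 3) (F := F4)
    rw [Matrix.card_GL_field, Nat.card_units, Nat.card_eq_fintype_card (α := F4), card_F4,
      Fin.prod_univ_three] at this
    change Nat.card SL(3, F4) * 3 = 63 * 60 * 48 at this
    omega
  have h2 : Nat.card g.range = 64 := by
    rw [← Nat.card_congr (MonoidHom.ofInjective hg).toEquiv, card_mdl]
  have h3 : ¬ 2 ∣ g.range.index := by
    intro h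
    have h4 := g.range.card_mul_index
    have h5 : Nat.card (Matrix.ProjectiveSpecialLinearGroup (Fin 3) F4) ∣ 60480 :=
      h1 ▸ card_quotient_dvd_card _
    rw [← h4, h2] at h5
    have := (Nat.mul_dvd_mul_left 64 h).trans h5
    omega
  exact ⟨(MonoidHom.ofInjective hg).trans
    (Sylow.equiv (((isPGroup_mdl 0 0).of_equiv (MonoidHom.ofInjective hg)).toSylow h3) P)⟩

instance : Fact (∀ r : F4, r ^ 2 ≠ om + 1 * r) := ⟨by decide +kernel⟩

/-- The field with 16 elements. -/
abbrev F16 : Type := QuadraticAlgebra F4 om 1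

instance : Fintype F16 := Fintype.ofEquiv _ (QuadraticAlgebra.equivProd om (1 : F4)).symm

theorem card_F16 : Fintype.card F16 = 4 ^ 2 := by decide +kernel

/-- The conjugation of `F16`. -/
def cj16 (x : F16) : F16 := ⟨x.re + x.im, x.im⟩

theorem f16_pow : ∀ x : F16, x ^ 4 = cj16 x := by decide +kernel

theorem f16_2 : ∀ A B : F16, B + cj16 B + A * cj16 A = 0 ↔
    B.im = A.re * A.re + A.re * A.im + om * A.im * A.im := by
  decide +kernel

theorem f16_3 : ∀ l : F16, l * cj16 l = 1 → l ^ 5 = 1 := by decide +kernel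

theorem f16_4 : ∀ l : F16, l * cj16 l = 1 → l ^ 3 = 1 → l = 1 := by decide +kernel

theorem f16_5 : ∀ a b c a' b' c' : F4, (⟨c + c' + (1 * a * a' + b * a' + om * b * b'),
    (a + a') * (a + a') + (a + a') * (b + b') + om * (b + b') * (b + b')⟩ : F16) =
    ⟨c, a * a + a * b + om * b * b⟩ + ⟨c', a' * a' + a' * b' + om * b' * b'⟩ -
      cj16 ⟨a, b⟩ * ⟨a', b'⟩ := by
  decide +kernel

theorem psu_sylow (P : Sylow 2 (PSU 3 F16 4)) : Nonempty (Mdl 1 om ≃* P) := by
  have : Fact (Nat.Prime 2) := ⟨Nat.prime_two⟩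
  set σ := H2.frobq card_F16 with hσ
  have hs : ∀ x, σ x = cj16 x := fun x => (H2.frobq_apply card_F16 x).trans (f16_pow x)
  let f : Mdl 1 om →* U3 σ := MonoidHom.mk'
    (fun x => U3.u ⟨x.a, x.b⟩ ⟨x.c, x.a * x.a + x.a * x.b + om * x.b * x.b⟩ (by
      rw [hs, hs]; exact (f16_2 _ _).2 rfl)) fun x y => by
      rw [U3.u_mul]
      refine U3.u_congr _ rfl ?_
      rw [hs]
      exact f16_5 x.a x.b x.c y.a y.b y.c
  have hf : Function.Injective f := (injective_iff_map_eq_one f).2 fun x e => by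
    have h0 := congrArg U3.M e
    have h1 := congrFun (congrFun h0 1) 2
    have h2 := congrFun (congrFun h0 0) 2
    simp [f, U3.M_u, U3.M_one] at h1 h2
    exact Mdl.ext (congrArg QuadraticAlgebra.re h1) (congrArg QuadraticAlgebra.im h1)
      (congrArg QuadraticAlgebra.re h2)
  have hr : ∀ A B h, U3.u A B h ∈ f.range := fun A B h =>
    ⟨⟨A.re, A.im, B.re⟩, (U3.u_congr h rfl (by
      rw [hs, hs] at h
      exact QuadraticAlgebra.ext rfl ((f16_2 A B).1 h))).symm⟩
  have hmax : ∀ Q : Subgroup (U3 σ), IsPGroup 2 Q → f.range ≤ Q → Q = f.range := by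
    intro Q hQ hle
    refine le_antisymm (fun g hg => ?_) hle
    have hnt : Nontrivial Q := (nontrivial_iff_ne_bot Q).2 fun e => by
      have := card_le_of_le (e ▸ hle)
      rw [← Nat.card_congr (MonoidHom.ofInjective hf).toEquiv, card_mdl, card_bot] at this
      omega
    have := hQ.center_nontrivial
    obtain ⟨⟨z, hz⟩, hz1⟩ := exists_ne (1 : center Q)
    obtain ⟨l, c, hc, h1⟩ := U3.eq_of_comm (frobq_exists_tr card_F16)
      (frobq_exists_ne card_F16) (g := z.1) (by
        rintro _ ⟨a, b, hab, rfl⟩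
        exact congrArg Subtype.val (mem_center_iff.1 hz ⟨_, hle (hr a b hab)⟩).symm)
    have hl : l = 1 := by
      have h2 := U3.col z.1 0 2
      have h3 := U3.M_det z.1
      rw [h1] at h2 h3
      simp [U3.M_u, Matrix.det_fin_three] at h2 h3
      refine f16_4 l (by rw [← hs]; exact h2) (by linear_combination h3)
    rw [hl, one_smul] at h1
    have hc0 : c ≠ 0 := by
      rintro rfl
      exact hz1 (Subtype.ext (Subtype.ext ((U3.M_injective h1).trans (U3.u_zero _))))
    have h2 := congrArg (fun x : Q => U3.M x.1) (mem_center_iff.1 hz ⟨g, hg⟩)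
    simp only [coe_mul, U3.M_mul, h1, U3.M_u] at h2
    have e1 := congrFun (congrFun h2 0) 0
    have e2 := congrFun (congrFun h2 0) 1
    have e3 := congrFun (congrFun h2 0) 2
    have e4 := congrFun (congrFun h2 1) 2
    simp [Matrix.mul_apply, Fin.sum_univ_three, hc0] at e1 e2 e3 e4
    have e5 : U3.M g 2 2 = U3.M g 0 0 := by
      apply mul_left_cancel₀ hc0
      linear_combination -e3
    have hpow : ∀ n, U3.M (g ^ n) 0 0 = U3.M g 0 0 ^ n := by
      intro n
      induction n with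
      | zero => simp [U3.M_one]
      | succ n ih => rw [pow_succ, U3.M_mul_apply, ih, e1, e4, pow_succ]; ring
    have c1 := U3.col g 0 2
    have c2 := U3.col g 1 2
    have c3 := U3.col g 2 2
    have c4 := U3.M_det g
    have h00 : U3.M g 0 0 = 1 := by
      obtain ⟨k, hk⟩ := hQ ⟨g, hg⟩
      have h3 := hpow (2 ^ k)
      rw [show g ^ 2 ^ k = 1 from congrArg Subtype.val hk, U3.M_one, Matrix.one_apply_eq] at h3
      have h4 : U3.M g 0 0 * cj16 (U3.M g 0 0) = 1 := by
        simp [e1, e4, e5] at c1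
        rw [← hs]; exact c1
      have h5 : orderOf (U3.M g 0 0) ∣ Nat.gcd 5 (2 ^ k) := Nat.dvd_gcd
        (orderOf_dvd_of_pow_eq_one (f16_3 _ h4)) (orderOf_dvd_of_pow_eq_one h3.symm)
      rwa [Nat.Coprime.gcd_eq_one (Nat.Coprime.pow_right k (by decide)), Nat.dvd_one,
        orderOf_eq_one_iff] at h5
    rw [h00] at e5
    have h11 : U3.M g 1 1 = 1 := by
      simpa [Matrix.det_fin_three, e1, e2, e4, e5, h00] using c4
    simp [e1, e2, e4, e5, h00, h11] at c2 c3
    have : g = U3.u (U3.M g 1 2) (U3.M g 0 2) (by linear_combination c3) := U3.M_injective (by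
      refine Matrix.ext fun i j => ?_
      fin_cases i <;> fin_cases j <;> simp [U3.M_u, e1, e2, e4, e5, h00, h11]
      linear_combination c2)
    rw [this]
    exact hr _ _ _
  let S : Sylow 2 (U3 σ) := ⟨f.range, (isPGroup_mdl 1 om).of_equiv (MonoidHom.ofInjective hf),
    fun {Q} => hmax Q⟩
  have hZ : center (U3 σ) = ⊥ := eq_bot_iff.2 fun g hg => by
    obtain ⟨l, h1⟩ := U3.exists_scalar_of_mem_center (frobq_exists_tr card_F16)
      (frobq_exists_ne card_F16) hg
    have h2 := U3.col g 0 2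
    have h3 := U3.M_det g
    rw [h1] at h2 h3
    simp at h2 h3
    rw [f16_4 l (by rw [← hs]; exact h2) h3, one_smul] at h1
    exact U3.M_injective h1
  obtain ⟨e⟩ := nonempty_U3_equiv card_F16
  let e' : U3 σ ≃* PSU 3 F16 4 := ((QuotientGroup.quotientBot.symm.trans
    (QuotientGroup.quotientMulEquivOfEq hZ.symm)).trans (centerQuotCongr e))
  have : Finite (PSU 3 F16 4) := Finite.of_equiv _ e'.toEquiv
  exact ⟨((MonoidHom.ofInjective hf).trans (e'.subgroupMap f.range)).trans
    (Sylow.equiv (S.mapSurjective (f := e'.toMonoidHom) e'.surjective) P)⟩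

end Cfsg.L0.Syl64
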