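import Cfsg.Agent.L0.Fpf3
import Cfsg.Agent.L0.Syl64

/-!
Two-groups with a fixed-point-free automorphism of order three commuting with an involution
that has at most four fixed points.
-/

set_option autoImplicit false
set_option linter.unusedSectionVars false

namespace Cfsg.L0

open Subgroup Cfsg.H3 Syl64
open scoped commutatorElement

theorem Fpf3.four_le_card {T : Type*} [Group T] [Finite T] {ρ : T →* T} (h : Fpf3 ρ)
    {N : Subgroup T} (hN : ∀ x ∈ N, ρ x ∈ N) (hb : N ≠ ⊥) : 4 ≤ Nat.card N := by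
  have h1 := (h.restrict hN).card_modEq
  have h2 : 1 < Nat.card N := (one_lt_card_iff_ne_bot N).2 hb
  unfold Nat.ModEq at h1
  omega

theorem fpf3_ab {A : Type*} [CommGroup A] [Finite A] (hA : IsPGroup 2 A) {ρ τ : A →* A}
    (h : Fpf3 ρ) (hτ : ∀ x, τ (τ x) = x)
    (hF : Nat.card (MonoidHom.eqLocus τ (MonoidHom.id A)) ≤ 4) :
    (∃ x, closure {x, ρ x} = ⊤) ∨ (Nat.card A = 16 ∧ ∀ x : A, x ^ 2 = 1) := by
  have : Fact (Nat.Prime 2) := ⟨Nat.prime_two⟩
  set F := MonoidHom.eqLocus τ (MonoidHom.id A)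
  set s : A →* A := powMonoidHom 2 with hs
  have hsx : ∀ x, s x = x ^ 2 := fun _ => rfl
  have hΩ : ∀ x ∈ s.ker, ρ x ∈ s.ker := fun x hx => by
    rw [MonoidHom.mem_ker, hsx] at hx ⊢
    rw [← map_pow, hx, map_one]
  by_cases h4 : Nat.card s.ker ≤ 4
  · left
    by_cases hr : s.range = ⊤
    · refine ⟨1, eq_top_iff.2 fun y _ => ?_⟩
      have hinj : Function.Injective s :=
        (Finite.injective_iff_surjective).2 (MonoidHom.range_eq_top.1 hr)
      obtain ⟨k, hk⟩ := hA y
      suffices ∀ k, ∀ y : A, y ^ 2 ^ k = 1 → y = 1 by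
        rw [this k y hk]; exact one_mem _
      intro k
      induction k with
      | zero => simp
      | succ k ih =>
        intro y e
        refine ih y (hinj ?_)
        rw [hsx, map_one, ← pow_mul, ← pow_succ, e]
    obtain ⟨x, hx⟩ : ∃ x, x ∉ s.range := by
      by_contra! hc
      exact hr (eq_top_iff.2 fun x _ => hc x)
    refine ⟨x, ?_⟩
    set H := closure {x, ρ x}
    have hxH : x ∈ H := subset_closure (by simp)
    have hxH' : ρ x ∈ H := subset_closure (by simp)
    have hsr : ∀ y ∈ s.range, ρ y ∈ s.range := by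
      rintro _ ⟨y, rfl⟩
      exact ⟨ρ y, by rw [hsx, hsx, map_pow]⟩
    let ρ' := QuotientGroup.map s.range s.range ρ hsr
    have h' : Fpf3 ρ' := by
      refine ⟨fun y => ?_, fun y e => ?_⟩
      · obtain ⟨y, rfl⟩ := QuotientGroup.mk_surjective y
        exact congrArg QuotientGroup.mk (h.cube y)
      · obtain ⟨y, rfl⟩ := QuotientGroup.mk_surjective y
        exact (QuotientGroup.eq_one_iff y).2
          (h.mem_of_mem hsr (QuotientGroup.eq_iff_div_mem.1 (Eq.symm e)))
    have hH : ∀ y ∈ H, ρ y ∈ H := by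
      have : H ≤ H.comap ρ := by
        refine (closure_le _).2 ?_
        rintro y (rfl | rfl)
        · exact hxH'
        · change ρ (ρ x) ∈ H
          rw [eq_inv_of_mul_eq_one_right (h.prod x)]
          exact inv_mem (mul_mem hxH hxH')
      exact this
    have h5 : 4 ≤ Nat.card (H.map (QuotientGroup.mk' s.range)) := by
      refine h'.four_le_card ?_ fun e => hx ?_
      · rintro _ ⟨y, hy, rfl⟩
        exact ⟨ρ y, hH y hy, rfl⟩
      · have := mem_map_of_mem (QuotientGroup.mk' s.range) hxH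
        rw [e] at this
        exact (QuotientGroup.eq_one_iff x).1 this
    have h6 : Nat.card (A ⧸ s.range) = Nat.card s.ker := by
      have h1 := s.range.card_mul_index
      have h2 := s.ker.card_mul_index
      rw [index_ker] at h2
      change s.range.index = _
      have : 0 < Nat.card s.range := Nat.card_pos
      nlinarith
    have h7 : H.map (QuotientGroup.mk' s.range) = ⊤ :=
      eq_top_of_le_card _ (by omega)
    have h8 : H ⊔ s.range = ⊤ := by
      have := congrArg (comap (QuotientGroup.mk' s.range)) h7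
      rwa [comap_map_eq, QuotientGroup.ker_mk', comap_top] at this
    refine frattini_nongenerating (eq_top_iff.2 (h8 ▸ sup_le_sup_left ?_ _))
    rintro _ ⟨y, rfl⟩
    exact H1.pow_mem_frattini_of_isPGroup hA y
  right
  let D : A →* A := MonoidHom.id A / τ
  have hD : ∀ x, D x = x / τ x := fun _ => rfl
  have hker : D.ker = F := by
    ext x
    rw [MonoidHom.mem_ker, hD, div_eq_one, eq_comm]
    rfl
  have hinv : ∀ e ∈ D.range, τ e = e⁻¹ := by
    rintro _ ⟨x, rfl⟩
    rw [hD, map_div, hτ, inv_div]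
  have hEF : D.range ⊓ s.ker ≤ F := fun e he => by
    have : e ^ 2 = 1 := he.2
    change τ e = e
    rw [hinv e he.1, inv_eq_iff_mul_eq_one, ← pow_two, this]
  have hle : Nat.card s.ker ≤ 16 := by
    have h1 : s.ker.map D ≤ F := by
      refine le_trans (le_inf (map_le_range _ _) ?_) hEF
      rintro _ ⟨x, hx, rfl⟩
      have : x ^ 2 = 1 := hx
      rw [MonoidHom.mem_ker, hsx, ← map_pow, this, map_one]
    have h2 := H7.relIndex_mul_card_of_le (inf_le_right : D.ker ⊓ s.ker ≤ s.ker)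
    rw [inf_relIndex_right, relIndex_ker] at h2
    have h3 := (card_le_of_le h1).trans hF
    have h4 := (card_le_of_le (hker ▸ inf_le_left : D.ker ⊓ s.ker ≤ F)).trans hF
    nlinarith
  have h16 : Nat.card s.ker = 16 := by
    obtain ⟨k, hk⟩ := IsPGroup.iff_card.1 (hA.to_subgroup s.ker)
    have h1 := (h.restrict hΩ).card_modEq
    rw [hk] at h1 h4 hle ⊢
    have : k ≤ 4 := (Nat.pow_le_pow_iff_right (by norm_num)).1 (show 2 ^ k ≤ 2 ^ 4 from hle)
    interval_cases k <;> simp_all [Nat.ModEq]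
  have htop : D.range ⊔ s.ker = ⊤ := by
    have h1 := D.ker.card_mul_index
    rw [index_ker, hker] at h1
    have h2 := H7.relIndex_mul_card_of_le (inf_le_right : D.range ⊓ s.ker ≤ s.ker)
    have h3 := H7.relIndex_mul_card_of_le (le_sup_left : D.range ≤ D.range ⊔ s.ker)
    rw [relIndex_sup_left] at h3
    rw [inf_relIndex_right] at h2
    have h5 := (card_le_of_le hEF).trans hF
    refine eq_top_of_le_card _ ?_
    have h6 : 4 ≤ D.range.relIndex s.ker := by nlinarith
    nlinarith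
  have hsq : ∀ e ∈ D.range, ∃ e' ∈ D.range, e ^ 2 = e' ^ 2 ^ 2 := by
    rintro _ ⟨x, rfl⟩
    obtain ⟨e, he, w, hw, rfl⟩ := mem_sup.1 (htop ▸ mem_top x)
    have : w ^ 2 = 1 := hw
    refine ⟨e, he, ?_⟩
    rw [map_mul, mul_pow, ← map_pow D w, this, map_one, mul_one, hD, hinv e he, div_inv_eq_mul,
      ← pow_two, ← pow_mul]
    rfl
  have hsq' : ∀ k, ∀ e ∈ D.range, ∃ e' ∈ D.range, e ^ 2 = e' ^ 2 ^ (k + 1) := by
    intro k
    induction k with
    | zero => exact fun e he => ⟨e, he, rfl⟩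
    | succ k ih =>
      intro e he
      obtain ⟨e1, he1, h1⟩ := ih e he
      obtain ⟨e2, he2, h2⟩ := hsq e1 he1
      refine ⟨e2, he2, ?_⟩
      rw [h1, pow_succ' 2 k, pow_mul, h2, ← pow_mul, ← pow_add, add_comm 2 k]
  have hE : D.range ≤ s.ker := fun e he => by
    obtain ⟨k, hk⟩ := IsPGroup.iff_card.1 hA
    obtain ⟨e', -, h1⟩ := hsq' k e he
    rw [MonoidHom.mem_ker, hsx, h1, pow_succ, pow_mul, ← hk, pow_card_eq_one', one_pow]
  rw [sup_eq_right.2 hE] at htop
  exact ⟨by rw [← h16, htop, card_top], fun x => (htop ▸ mem_top x : x ∈ s.ker)⟩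

theorem fpf3_homocyclic {A : Type*} [CommGroup A] [Finite A] [Nontrivial A] (hA : IsPGroup 2 A)
    {ρ : A →* A} (h : Fpf3 ρ) {x : A} (hx : closure {x, ρ x} = ⊤) :
    ∃ n : ℕ, 1 ≤ n ∧
      Nonempty (A ≃* Multiplicative (ZMod (2 ^ n)) × Multiplicative (ZMod (2 ^ n))) := by
  have : Fact (Nat.Prime 2) := ⟨Nat.prime_two⟩
  obtain ⟨n, hn⟩ := IsPGroup.iff_orderOf.1 hA x
  rcases n with _ | m
  · obtain rfl : x = 1 := by simpa using hn
    obtain ⟨y, hy⟩ := exists_ne (1 : A)
    have : y ∈ closure {1, ρ 1} := hx ▸ mem_top y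
    simp [closure_singleton_one, hy] at this
  have key : ∀ y : A, orderOf y = 2 ^ (m + 1) → ∀ z ∈ zpowers y, orderOf z = 2 →
      z = y ^ 2 ^ m := by
    intro y hy z hz h2
    obtain ⟨i, rfl⟩ := mem_powers_iff_mem_zpowers.2 hz
    simp only at h2 ⊢
    have h3 := pow_orderOf_eq_one (y ^ i)
    rw [h2, ← pow_mul, ← orderOf_dvd_iff_pow_eq_one, hy, pow_succ] at h3
    obtain ⟨c, rfl⟩ := Nat.dvd_of_mul_dvd_mul_right two_pos h3
    have h4 : (y ^ 2 ^ m) ^ 2 = 1 := by rw [← pow_mul, ← pow_succ, ← hy, pow_orderOf_eq_one]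
    rw [pow_mul] at h2 ⊢
    obtain ⟨d, rfl | rfl⟩ := Nat.even_or_odd' c
    · rw [pow_mul, h4, one_pow, orderOf_one] at h2
      omega
    · rw [pow_succ, pow_mul, h4, one_pow, one_mul]
  have hn' : orderOf (ρ x) = 2 ^ (m + 1) := by rw [orderOf_injective ρ h.injective, hn]
  have hd : ∀ z ∈ zpowers x, z ∈ zpowers (ρ x) → z = 1 := by
    intro z h1 h2
    obtain ⟨j, hj⟩ := IsPGroup.iff_orderOf.1 hA z
    rcases j with _ | j
    · simpa using hj
    have h3 : orderOf (z ^ 2 ^ j) = 2 := by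
      rw [orderOf_pow' _ (by positivity), hj, pow_succ, Nat.gcd_mul_right_left,
        Nat.mul_div_cancel_left _ (by positivity)]
    have h4 := key x hn _ (pow_mem h1 _) h3
    have h5 := key _ hn' _ (pow_mem h2 _) h3
    rw [← map_pow, ← h4] at h5
    rw [h.fpf _ h5.symm, orderOf_one] at h3
    omega
  let e1 : Multiplicative (ZMod (2 ^ (m + 1))) ≃* zpowers x :=
    mulEquivOfCyclicCardEq (by rw [Nat.card_zpowers, hn]; simp)
  let e2 : Multiplicative (ZMod (2 ^ (m + 1))) ≃* zpowers (ρ x) :=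
    mulEquivOfCyclicCardEq (by rw [Nat.card_zpowers, hn']; simp)
  let f := ((zpowers x).subtype.comp e1.toMonoidHom).coprod
    ((zpowers (ρ x)).subtype.comp e2.toMonoidHom)
  have hf : ∀ p, f p = (e1 p.1).1 * (e2 p.2).1 := fun _ => rfl
  refine ⟨m + 1, by omega, ⟨(MulEquiv.ofBijective f ⟨(injective_iff_map_eq_one f).2 fun p e => ?_,
    MonoidHom.range_eq_top.1 (eq_top_iff.2 (hx ▸ (closure_le _).2 ?_))⟩).symm⟩⟩
  · rw [hf] at e
    have h1 : (e1 p.1).1 = 1 :=
      hd _ (e1 p.1).2 (eq_inv_of_mul_eq_one_left e ▸ inv_mem (e2 p.2).2)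
    rw [h1, one_mul] at e
    exact Prod.ext (e1.map_eq_one_iff.1 (Subtype.ext h1)) (e2.map_eq_one_iff.1 (Subtype.ext e))
  · rintro _ (rfl | rfl)
    · exact ⟨(e1.symm ⟨_, mem_zpowers _⟩, 1), by simp [hf]⟩
    · exact ⟨(1, e2.symm ⟨_, mem_zpowers _⟩), by simp [hf]⟩

/-- The `F₄`-multiples of `x`. -/
def xp {T : Type*} [Group T] (ρ : T →* T) (x : T) (a : F4) : T :=
  if a = 0 then 1 else if a = 1 then x else if a = om then ρ x else ρ (ρ x)

section
variable {T : Type*} [Group T] [Finite T] {ρ : T →* T}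

theorem xp_zero (x : T) : xp ρ x 0 = 1 := if_pos rfl
theorem xp_one (x : T) : xp ρ x 1 = x := by
  rw [xp, if_neg (by decide +kernel), if_pos rfl]
theorem xp_om (x : T) : xp ρ x om = ρ x := by
  rw [xp, if_neg (by decide +kernel), if_neg (by decide +kernel), if_pos rfl]
theorem xp_om1 (x : T) : xp ρ x (om + 1) = ρ (ρ x) := by
  rw [xp, if_neg (by decide +kernel), if_neg (by decide +kernel), if_neg (by decide +kernel)]

theorem xp_rho (h : Fpf3 ρ) (x : T) (a : F4) : ρ (xp ρ x a) = xp ρ x (om * a) := by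
  rcases f4_cases a with rfl | rfl | rfl | rfl
  · rw [mul_zero, xp_zero, map_one]
  · rw [mul_one, xp_one, xp_om]
  · rw [show om * om = om + 1 by decide +kernel, xp_om, xp_om1]
  · rw [show om * (om + 1) = 1 by decide +kernel, xp_om1, h.cube, xp_one]

theorem xp_mul (h : Fpf3 ρ) {Z : F4 → T} (h0 : Z 0 = 1) (hρ : ∀ c, ρ (Z c) = Z ((om + 1) * c))
    (h2 : ∀ c, Z c * Z c = 1) {x : T} {α : F4} (hx : x * x = Z α) (a a' : F4) :
    xp ρ x a * xp ρ x a' = xp ρ x (a + a') * Z (α * a * a') := by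
  have k : ∀ u β, u * u = Z β → u * ρ u = ρ (ρ u) * Z (om * β) ∧
      ρ u * u = ρ (ρ u) * Z (om * β) := by
    intro u β e
    have e1 := congrArg (fun v => ρ (ρ v)) e
    simp only [map_mul, hρ] at e1
    rw [← mul_assoc, show (om + 1) * (om + 1) = om by decide +kernel] at e1
    rw [← h.comm, and_self, eq_inv_of_mul_eq_one_left (h.prod u), inv_eq_iff_mul_eq_one,
      ← mul_assoc, e1, h2]
  have hx1 : ρ x * ρ x = Z ((om + 1) * α) := by rw [← map_mul, hx, hρ]
  have hx2 : ρ (ρ x) * ρ (ρ x) = Z ((om + 1) * ((om + 1) * α)) := by rw [← map_mul, hx1, hρ]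
  have k0 := k _ _ hx
  have k1 := k _ _ hx1
  have k2 := k _ _ hx2
  rw [h.cube] at k1
  rw [h.cube] at k2
  have t : ∀ α : F4, (α * 1 * 1 = α ∧ α * om * om = (om + 1) * α ∧
      α * (om + 1) * (om + 1) = (om + 1) * ((om + 1) * α)) ∧
      (α * 1 * om = om * α ∧ α * om * 1 = om * α) ∧
      (α * om * (om + 1) = om * ((om + 1) * α) ∧ α * (om + 1) * om = om * ((om + 1) * α)) ∧
      α * (om + 1) * 1 = om * ((om + 1) * ((om + 1) * α)) ∧
      α * 1 * (om + 1) = om * ((om + 1) * ((om + 1) * α)) := by decide +kernel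
  obtain ⟨⟨t1, t2, t3⟩, ⟨t4, t5⟩, ⟨t6, t7⟩, t8, t9⟩ := t α
  rcases f4_cases a with rfl | rfl | rfl | rfl
  · simp [xp_zero, h0]
  all_goals rcases f4_cases a' with rfl | rfl | rfl | rfl
  any_goals (simp [xp_zero, h0]; done)
  · rw [f4_two, t1, xp_zero, xp_one, hx, one_mul]
  · rw [add_comm, t4, xp_one, xp_om, xp_om1, k0.1]
  · rw [show 1 + (om + 1) = om by decide +kernel, t9, xp_one, xp_om, xp_om1, k2.2]
  · rw [t5, xp_one, xp_om, xp_om1, k0.2]
  · rw [f4_two, t2, xp_zero, xp_om, hx1, one_mul]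
  · rw [show om + (om + 1) = 1 by decide +kernel, t6, xp_one, xp_om, xp_om1, k1.1]
  · rw [show om + 1 + 1 = om by decide +kernel, t8, xp_one, xp_om, xp_om1, k2.1]
  · rw [show om + 1 + om = 1 by decide +kernel, t7, xp_one, xp_om, xp_om1, k1.2]
  · rw [f4_two, t3, xp_zero, xp_om1, hx2, one_mul]

theorem central_rearr {A A' B B' P Q z z' u v w : T} (hz : ∀ g, g * z = z * g)
    (hz' : ∀ g, g * z' = z' * g) (hu : ∀ g, g * u = u * g) (hw : ∀ g, g * w = w * g)
    (e1 : A * A' = P * u) (e2 : B * B' = Q * v) (e3 : B * A' = w * (A' * B)) :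
    P * Q * (z * z' * (u * w * v)) = A * B * z * (A' * B' * z') := by
  symm
  calc _ = A * B * (z * (A' * B')) * z' := by group
    _ = A * (B * A') * B' * z * z' := by rw [← hz]; group
    _ = A * (w * (A' * (B * B'))) * z * z' := by rw [e3]; group
    _ = (A * A') * (B * B') * w * z * z' := by rw [← hw]; group
    _ = P * (u * Q) * (v * w) * z * z' := by rw [e1, e2]; group
    _ = P * Q * ((u * w * v) * z * z') := by rw [← hu, hw v]; group
    _ = _ := by rw [hz (u * w * v), mul_assoc z, hz' (u * w * v), ← mul_assoc z]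

theorem fpf3_mdl (h : Fpf3 ρ) (hZ : commutator T ≤ center T) (hb : commutator T ≠ ⊥)
    (hc : Nat.card (Abelianization T) = 16) (h2 : ∀ x : Abelianization T, x ^ 2 = 1) :
    ∃ α γ, Nonempty (Mdl α γ ≃* T) := by
  set π : T →* Abelianization T := Abelianization.of
  set σ := Abelianization.map ρ
  have h' : Fpf3 σ := h.abelianization
  have hπ : ∀ u, π u = 1 ↔ u ∈ commutator T := fun u => QuotientGroup.eq_one_iff u
  have hnat : ∀ x a, π (xp ρ x a) = xp σ (π x) a := by
    intro x a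
    unfold xp
    split_ifs <;> rfl
  have hadd : ∀ u a a', xp σ u (a + a') = xp σ u a * xp σ u a' := fun u a a' => by
    rw [xp_mul h' (Z := fun _ => 1) rfl (fun _ => map_one _) (fun _ => one_mul _) (α := 0)
      (by rw [← pow_two, h2]), mul_one]
  have hinj : ∀ u, u ≠ 1 → ∀ a, xp σ u a = 1 → a = 0 := by
    intro u hu a e
    rcases f4_cases a with rfl | rfl | rfl | rfl
    · rfl
    · exact absurd (xp_one (ρ := σ) u ▸ e) hu
    · rw [xp_om, map_eq_one_iff _ h'.injective] at e; exact absurd e hu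
    · rw [xp_om1, map_eq_one_iff _ h'.injective, map_eq_one_iff _ h'.injective] at e
      exact absurd e hu
  have hsurj : Function.Surjective π := QuotientGroup.mk_surjective
  have := Fintype.ofFinite (Abelianization T)
  classical
  obtain ⟨x, hx⟩ : ∃ x, π x ≠ 1 := by
    have : Nontrivial (Abelianization T) := Finite.one_lt_card_iff_nontrivial.1 (by omega)
    obtain ⟨u, hu⟩ := exists_ne (1 : Abelianization T)
    obtain ⟨x, rfl⟩ := hsurj u
    exact ⟨x, hu⟩
  obtain ⟨y, hy⟩ : ∃ y, ∀ a, xp σ (π x) a ≠ π y := by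
    by_contra! hcon
    have : Function.Surjective (xp σ (π x)) := fun u => by
      obtain ⟨y, rfl⟩ := hsurj u
      exact hcon y
    have := Nat.card_le_card_of_surjective _ this
    rw [hc, Nat.card_eq_fintype_card, card_F4] at this
    omega
  have hind : ∀ a b, xp σ (π x) a * xp σ (π y) b = 1 → a = 0 ∧ b = 0 := by
    intro a b e
    have hb : b = 0 := by
      by_contra hb
      have e1 : xp σ (π y) b = xp σ (π x) a := by
        rw [eq_inv_of_mul_eq_one_right e, inv_eq_iff_mul_eq_one, ← pow_two, h2]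
      have e2 := congrArg σ e1
      have e3 := congrArg σ e2
      simp only [xp_rho h'] at e2 e3
      rcases f4_cases b with rfl | rfl | rfl | rfl
      · exact hb rfl
      · rw [xp_one] at e1; exact hy _ e1.symm
      · rw [show om * (om * om) = 1 by decide +kernel, xp_one] at e3; exact hy _ e3.symm
      · rw [show om * (om + 1) = 1 by decide +kernel, xp_one] at e2; exact hy _ e2.symm
    rw [hb, xp_zero, mul_one] at e
    exact ⟨hinj _ hx _ e, hb⟩
  have hall : ∀ u : T, ∃ a b, ∃ z ∈ center T, z ∈ commutator T ∧ u = xp ρ x a * xp ρ y b * z := by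
    intro u
    have hi : Function.Injective fun p : F4 × F4 => xp σ (π x) p.1 * xp σ (π y) p.2 := by
      intro p q e
      simp only at e
      obtain ⟨h1, h3⟩ := hind (p.1 + q.1) (p.2 + q.2) (by
        rw [hadd, hadd, mul_mul_mul_comm, e, ← pow_two, h2])
      have k : ∀ a b : F4, a + b = 0 → a = b := by decide +kernel
      exact Prod.ext (k _ _ h1) (k _ _ h3)
    obtain ⟨p, hp⟩ := (hi.bijective_of_nat_card_le (by
      rw [hc, Nat.card_prod, Nat.card_eq_fintype_card, card_F4])).2 (π u)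
    have : (xp ρ x p.1 * xp ρ y p.2)⁻¹ * u ∈ commutator T := by
      rw [← hπ, map_mul, map_inv, map_mul, hnat, hnat, ← hp, inv_mul_cancel]
    exact ⟨p.1, p.2, _, hZ this, this, by group⟩
  have hcl : ∀ u v : T, π u = π v → ∀ w : T, ⁅u, w⁆ = ⁅v, w⁆ := by
    intro u v e w
    have : v⁻¹ * u ∈ commutator T := by rw [← hπ, map_mul, map_inv, e, inv_mul_cancel]
    have h1 := comm_mul_left hZ v (v⁻¹ * u) w
    rwa [mul_inv_cancel_left, commutatorElement_eq_one_iff_mul_comm.2
      (mem_center_iff.1 (hZ this) w).symm, mul_one] at h1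
  have hsw : ∀ u v : T, ⁅u, ρ v⁆ = ⁅ρ u, v⁆ := by
    intro u v
    have h1 := commutatorElement_eq_one_iff_mul_comm.2 (h.comm (u * v))
    rw [map_mul, comm_mul_left hZ, comm_mul_right hZ, comm_mul_right hZ,
      commutatorElement_eq_one_iff_mul_comm.2 (h.comm u),
      commutatorElement_eq_one_iff_mul_comm.2 (h.comm v), one_mul, mul_one] at h1
    rw [eq_inv_of_mul_eq_one_left h1, commutatorElement_inv]
  let Z : F4 → T := fun c => ⁅xp ρ x c, y⁆
  have Z0 : Z 0 = 1 := by simp [Z, xp_zero]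
  have Zadd : ∀ c c', Z (c + c') = Z c * Z c' := fun c c' => by
    simp only [Z]
    rw [← comm_mul_left hZ]
    exact hcl _ _ (by rw [map_mul, hnat, hnat, hnat, hadd]) _
  have Z2 : ∀ c, Z c * Z c = 1 := fun c => by rw [← Zadd, f4_two, Z0]
  have Zρ : ∀ c, ρ (Z c) = Z ((om + 1) * c) := fun c => by
    simp only [Z]
    rw [map_commutatorElement, hsw, xp_rho h, xp_rho h, ← mul_assoc,
      show om * om = om + 1 by decide +kernel]
  have ZXY : ∀ a b, ⁅xp ρ x a, xp ρ y b⁆ = Z (a * b) := by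
    intro a b
    simp only [Z]
    rcases f4_cases b with rfl | rfl | rfl | rfl
    · simp [xp_zero]
    · rw [xp_one, mul_one]
    · rw [xp_om, hsw, xp_rho h, mul_comm]
    · rw [xp_om1, hsw, hsw, xp_rho h, xp_rho h, ← mul_assoc,
        show om * om = om + 1 by decide +kernel, mul_comm]
  have ZYX : ∀ a b, ⁅xp ρ y b, xp ρ x a⁆ = Z (a * b) := fun a b => by
    rw [← commutatorElement_inv, ZXY, inv_eq_iff_mul_eq_one, Z2]
  have hXX : ∀ u a a', ⁅xp ρ u a, xp ρ u a'⁆ = 1 := by
    intro u a a'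
    have c1 : Commute u (ρ u) := h.comm u
    have c2 : Commute (ρ u) (ρ (ρ u)) := h.comm _
    have c3 : Commute (ρ (ρ u)) u := by simpa [h.cube] using (show Commute _ _ from h.comm (ρ (ρ u)))
    rw [commutatorElement_eq_one_iff_commute]
    unfold xp
    split_ifs <;> simp [c1, c2, c3, c1.symm, c2.symm, c3.symm]
  let R : Subgroup T :=
    { carrier := Set.range Z
      mul_mem' := by rintro _ _ ⟨c, rfl⟩ ⟨c', rfl⟩; exact ⟨_, Zadd c c'⟩
      one_mem' := ⟨0, Z0⟩
      inv_mem' := by rintro _ ⟨c, rfl⟩; exact ⟨c, eq_inv_of_mul_eq_one_left (Z2 c)⟩ }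
  have hR : commutator T ≤ R := by
    rw [_root_.commutator_def, commutator_le]
    intro u _ v _
    obtain ⟨a, b, z, hz, -, rfl⟩ := hall u
    obtain ⟨a', b', z', hz', -, rfl⟩ := hall v
    have k1 : ∀ w : T, ⁅z, w⁆ = 1 := fun w =>
      commutatorElement_eq_one_iff_mul_comm.2 (mem_center_iff.1 hz w).symm
    have k2 : ∀ w : T, ⁅w, z'⁆ = 1 := fun w =>
      commutatorElement_eq_one_iff_mul_comm.2 (mem_center_iff.1 hz' w)
    simp only [comm_mul_left hZ, comm_mul_right hZ, k1, k2, hXX, ZXY, ZYX, one_mul, mul_one]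
    exact mul_mem ⟨_, rfl⟩ ⟨_, rfl⟩
  have Zinj : ∀ c, Z c = 1 → c = 0 := by
    intro c e
    by_contra hc
    refine hb (eq_bot_iff.2 (hR.trans ?_))
    rintro _ ⟨d, rfl⟩
    have e1 := congrArg ρ e
    have e2 := congrArg ρ e1
    simp only [Zρ, map_one] at e1 e2
    have k : ∀ c d : F4, c ≠ 0 → d = 0 ∨ d = c ∨ d = (om + 1) * c ∨
      d = (om + 1) * ((om + 1) * c) := by decide +kernel
    rcases k c d hc with rfl | rfl | rfl | rfl <;> assumption
  obtain ⟨α, hα⟩ := hR ((hπ (x * x)).1 (by rw [map_mul, ← pow_two, h2]))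
  obtain ⟨γ, hγ⟩ := hR ((hπ (y * y)).1 (by rw [map_mul, ← pow_two, h2]))
  have Zc : ∀ c w, w * Z c = Z c * w := fun c => mem_center_iff.1 (comm_mem_center hZ _ _)
  let f : Mdl α γ →* T := MonoidHom.mk' (fun p => xp ρ x p.a * xp ρ y p.b * Z p.c) fun p q => by
    simp only [mdl_mul, Zadd]
    have e1 := xp_mul h Z0 Zρ Z2 hα.symm p.a q.a
    have e2 := xp_mul h Z0 Zρ Z2 hγ.symm p.b q.b
    have e3 : xp ρ y p.b * xp ρ x q.a = Z (p.b * q.a) * (xp ρ x q.a * xp ρ y p.b) := by
      rw [mul_comm p.b, ← ZYX, commutatorElement_def]; group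
    exact central_rearr (Zc _) (Zc _) (Zc _) (Zc _) e1 e2 e3
  refine ⟨α, γ, ⟨MulEquiv.ofBijective f ⟨(injective_iff_map_eq_one f).2 fun p e => ?_, fun u => ?_⟩⟩⟩
  · have e' : xp ρ x p.a * xp ρ y p.b * Z p.c = 1 := e
    have h1 := congrArg π e'
    rw [map_mul, map_mul, hnat, hnat, map_one, (hπ (Z p.c)).2
      (commutator_mem_commutator (mem_top _) (mem_top _)), mul_one] at h1
    obtain ⟨h3, h4⟩ := hind _ _ h1
    rw [h3, h4, xp_zero, xp_zero, one_mul, one_mul] at e'
    exact Mdl.ext h3 h4 (Zinj _ e')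
  · obtain ⟨a, b, z, -, hz, rfl⟩ := hall u
    obtain ⟨c, rfl⟩ := hR hz
    exact ⟨⟨a, b, c⟩, rfl⟩

end

end Cfsg.L0
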