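import Cfsg.Agent.L0.Components
import Cfsg.Agent.H7.Residual
import Cfsg.Agent.H8.Syl

/-! Sylow subgroups of joins of subnormal subgroups (Wielandt). -/

set_option autoImplicit false

namespace Cfsg.L0

open Subgroup Cfsg.H8

variable {G : Type*} [Group G]

theorem pResidualOf_eq_of_sn {p : ℕ} [Fact p.Prime] {A L Q : Subgroup G} (hQ : IsPGroup p Q)
    (hAQ : A ≤ normalizer (Q : Set G)) (h : SN A L) (hL : L ≤ A ⊔ Q) :
    pResidualOf p L = pResidualOf p A := by
  induction h with
  | refl => rfl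
  | @step K L h0 h1 h2 ih =>
    rw [← ih (h1.trans hL)]
    have e : L = (Q ⊓ L) ⊔ K := by
      refine le_antisymm ?_ (sup_le inf_le_right h1)
      have := dedekind (h0.le.trans h1) hAQ
      rw [inf_eq_left.2 hL] at this
      rw [sup_comm, inf_comm]
      exact this.le.trans (sup_le_sup_right h0.le _)
    rw [e]
    exact H7.pResidualOf_sup_eq hQ.to_inf_left (inf_le_right.trans h2)

/-- A normal `p`-subgroup normalizes `O^p(A)` for every subnormal `A`. -/
theorem le_normalizer_pResidualOf_of_isSubnormal {p : ℕ} [Fact p.Prime] {A Q : Subgroup G}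
    [Q.Normal] (hQ : IsPGroup p Q) (h : A.IsSubnormal) :
    Q ≤ normalizer (pResidualOf p A : Set G) := by
  rw [← pResidualOf_eq_of_sn hQ le_normalizer_of_normal (sn_of_isSubnormal h le_sup_left) le_rfl]
  exact le_sup_right.trans (H7.le_normalizer_pResidualOf p _)

variable [Finite G] {p : ℕ} [Fact p.Prime]

theorem isSyl_iff_isSylowIn {T H : Subgroup G} : IsSyl p T H ↔ H7.IsSylowIn p T H :=
  ⟨fun h => H7.isSylowIn_of_not_dvd_relIndex h.isPGroup h.le h.not_dvd,
    fun h => ⟨h.le, h.isPGroup, h.not_dvd_relIndex⟩⟩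

theorem inf_sup_le_of_normalizes {S X Y : Subgroup G} (hS : IsSyl p S ⊤) (hX : X.IsSubnormal)
    (hY : Y.IsSubnormal) (h : X ≤ normalizer (Y : Set G)) :
    S ⊓ (X ⊔ Y) ≤ (S ⊓ X) ⊔ (S ⊓ Y) := by
  have h1 := isSyl_iff_isSylowIn.1 (hS.inf_sn (sn_top_iff.2 hX))
  have h2 := isSyl_iff_isSylowIn.1 (hS.inf_sn (sn_top_iff.2 hY))
  have h3 := h1.sup h2 h (le_normalizer_inf (inf_le_left.trans le_normalizer) (inf_le_right.trans h))
  exact (h3.max _ hS.isPGroup.to_inf_left (le_inf (sup_le inf_le_left inf_le_left)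
    (sup_le_sup inf_le_right inf_le_right)) inf_le_right).le

theorem inf_sSup_components_le {S R : Subgroup G} (hS : IsSyl p S ⊤) {C : Set (Subgroup G)}
    (hC : ∀ K ∈ C, IsComponent K ∧ S ⊓ K ≤ R) : S ⊓ sSup C ≤ R := by
  have hfin : C.Finite := Set.toFinite C
  induction C, hfin using Set.Finite.induction_on with
  | empty => simp
  | @insert K C _ _ ih =>
    rw [sSup_insert]
    have h1 : (sSup C).IsSubnormal := isSubnormal_sSup fun X hX => (hC X (Or.inr hX)).1.1
    have h2 := hC K (Or.inl rfl)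
    exact (inf_sup_le_of_normalizes hS h2.1.1 h1 ((component_le_layer h2.1).trans
      (layer_le_normalizer h1))).trans (sup_le h2.2 (ih fun X hX => hC X (Or.inr hX)))

theorem inf_sup_le_aux (p : ℕ) [Fact p.Prime] (n : ℕ) : ∀ (G : Type _) [Group G] [Finite G],
    Nat.card G = n → ∀ S A B : Subgroup G, IsSyl p S ⊤ → A.IsSubnormal → B.IsSubnormal →
    S ⊓ (A ⊔ B) ≤ (S ⊓ A) ⊔ (S ⊓ B) := by
  induction n using Nat.strong_induction_on with
  | _ n ih =>
  intro G _ _ hn S A B hS hA hB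
  by_cases hJ : A ⊔ B ≠ ⊤
  · set J := A ⊔ B with hJd
    have h1 := (hS.inf_sn (sn_top_iff.2 (isSubnormal_sup hA hB))).subgroupOf_top
    have h2 := map_mono (f := J.subtype) (ih _ (hn ▸ card_lt_of_ne_top hJ) J rfl _ (A.subgroupOf J)
      (B.subgroupOf J) h1 (sn_iff.1 (sn_of_isSubnormal hA le_sup_left)).2
      (sn_iff.1 (sn_of_isSubnormal hB le_sup_right)).2)
    rw [← subgroupOf_sup le_sup_left le_sup_right, subgroupOf_self, inf_top_eq,
      map_subgroupOf_eq_of_le inf_le_right, Subgroup.map_sup] at h2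
    refine h2.trans (sup_le_sup ?_ ?_) <;>
    · rintro _ ⟨x, hx, rfl⟩; exact ⟨hx.1.1, hx.2⟩
  rw [not_ne_iff] at hJ
  rw [hJ, inf_top_eq]
  set R := (S ⊓ A) ⊔ (S ⊓ B) with hR
  have hRS : R ≤ S := sup_le inf_le_left inf_le_left
  have quot : ∀ N : Subgroup G, N.Normal → N ≠ ⊥ → S ⊓ N ≤ R → S ≤ R := by
    intro N hN hN1 hle
    set π := QuotientGroup.mk' N with hπ
    have hs : Function.Surjective π := QuotientGroup.mk'_surjective N
    have h1 := hS.map π
    rw [map_top_of_surjective _ hs] at h1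
    have sn : ∀ X : Subgroup G, X.IsSubnormal → (X.map π).IsSubnormal := fun X hX => by
      have := (sn_top_iff.2 hX).map π
      rwa [map_top_of_surjective _ hs, sn_top_iff] at this
    have e : ∀ X : Subgroup G, X.IsSubnormal → S.map π ⊓ X.map π = (S ⊓ X).map π := fun X hX =>
      ((hS.inf_sn (sn_top_iff.2 hX)).map π).eq_of_le h1.isPGroup.to_inf_left (map_inf_le _ _ _)
        inf_le_right
    have h2 := ih _ (hn ▸ card_quotient_lt hN1) (G ⧸ N) rfl _ _ _ h1 (sn A hA) (sn B hB)
    rw [← Subgroup.map_sup, hJ, map_top_of_surjective _ hs, inf_top_eq, e A hA, e B hB,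
      ← Subgroup.map_sup, ← hR, Subgroup.map_le_map_iff, hπ, QuotientGroup.ker_mk'] at h2
    have h3 := dedekind hRS (le_normalizer_of_normal (H := N))
    rw [inf_eq_left.2 h2] at h3
    exact h3.le.trans (sup_le le_rfl hle)
  by_cases h1 : pPrimeCore p G ≠ ⊥
  · refine quot _ inferInstance h1 (le_trans (le_of_eq ?_) bot_le)
    exact inf_eq_bot_of_coprime' (coprime_card_of_isPGroup hS.isPGroup (coprime_card_pPrimeCore p)).symm
  by_cases h2 : layer G ≠ ⊥
  · refine quot _ inferInstance h2 (inf_sSup_components_le hS fun K hK => ⟨hK, ?_⟩)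
    rcases component_le_or_comm hK hA with h | h
    · exact (inf_le_inf_left S h).trans le_sup_left
    rcases component_le_or_comm hK hB with h' | h'
    · exact (inf_le_inf_left S h').trans le_sup_right
    · have := comm_bot_sup h h'
      rw [hJ] at this
      exact absurd (comm_bot_mono this le_top le_rfl) (IsComponent.qs hK).comm_ne_bot
  rw [not_ne_iff] at h1 h2
  set Q := pCore p G with hQ
  have hQp : IsPGroup p Q := isPGroup_pCore p G
  have hQS : Q ≤ S := hS.le_of_normalizes hQp le_top le_normalizer_of_normal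
  have hC : centralizer (Q : Set G) ≤ Q := fstar_le_pCore_iff.1 (sup_le (h2 ▸ bot_le)
    ((fitting_le_pCore_sup_pPrimeCore p).trans (by rw [h1, sup_bot_eq])))
  have hc : ∀ X : Subgroup G, X.IsSubnormal → S ⊓ X ≤ R → ⁅Q, pResidualOf p X⁆ ≤ R ⊓ Q := fun X hX h => by
    have := commutator_le_inf_of_normalizes (le_normalizer_pResidualOf_of_isSubnormal hQp hX)
      (le_normalizer_of_normal (H := Q))
    exact le_inf (this.trans ((inf_le_inf hQS (H7.pResidualOf_le p X)).trans h)) (this.trans inf_le_left)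
  have hn' : ∀ X : Subgroup G, X.IsSubnormal → S ⊓ X ≤ R → X ≤ normalizer ((R ⊓ Q : Subgroup G) : Set G) := by
    intro X hX h
    rw [← (isSyl_iff_isSylowIn.1 (hS.inf_sn (sn_top_iff.2 hX))).sup_pResidualOf]
    exact sup_le (le_normalizer_inf (h.trans le_normalizer) le_normalizer_of_normal)
      (le_normalizer_iff_commutator_le_left.2 ((commutator_mono inf_le_right le_rfl).trans (hc X hX h)))
  by_cases h3 : R ⊓ Q ≠ ⊥
  · exact quot _ (normal_of_top_le (hJ ▸ sup_le (hn' A hA le_sup_left) (hn' B hB le_sup_right))) h3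
      (inf_le_right.trans inf_le_left)
  rw [not_ne_iff] at h3
  have hp : ∀ X : Subgroup G, X.IsSubnormal → S ⊓ X ≤ R → X ≤ R := fun X hX h => by
    have h4 := hc X hX h
    rw [h3, le_bot_iff] at h4
    have h5 := (commutator_eq_bot_iff_le_centralizer.1 (comm_bot_symm h4)).trans hC
    exact (le_inf ((le_pCore_of_isSubnormal hX (H7.isPGroup_of_pResidualOf_le hQp h5)).trans hQS)
      le_rfl).trans h
  exact le_top.trans (hJ ▸ sup_le (hp A hA le_sup_left) (hp B hB le_sup_right))

/-- Wielandt: `S ∩ ⟨A, B⟩ = ⟨S ∩ A, S ∩ B⟩` for subnormal `A`, `B` and a Sylow subgroup `S`. -/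
theorem sylow_inf_sup {S A B : Subgroup G} (hS : IsSyl p S ⊤) (hA : A.IsSubnormal)
    (hB : B.IsSubnormal) : S ⊓ (A ⊔ B) = (S ⊓ A) ⊔ (S ⊓ B) :=
  le_antisymm (inf_sup_le_aux p _ G rfl S A B hS hA hB) le_inf_sup

end Cfsg.L0
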